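import Groth.Agent.RGBlowLib.Sheaf
import Groth.Agent.FittSheafLib.Free
import Groth.Agent.PullbackMod.Hom
import Groth.Agent.PdFlat.Sheaf
import Groth.Agent.BlowCompLib.Compose
import Groth.Agent.ModPairLib.Cartier
import Groth.Agent.S1571
import Groth.Agent.S6896
import Groth.Agent.S8872
import Groth.Agent.S8873
import Groth.Agent.S8875
import Groth.Agent.S4812
import Groth.Prelude.Def_CInt

/-!
# Strict transforms along the blow-up of a Fitting ideal
-/

set_option autoImplicit false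
set_option linter.style.haveILetI false
set_option backward.isDefEq.respectTransparency false
set_option maxHeartbeats 1000000

universe u

open CategoryTheory CategoryTheory.Limits AlgebraicGeometry TopologicalSpace Opposite

noncomputable section

namespace Groth.Agent.BlowFittLib

variable {X : Scheme.{u}}

/-- An ideal sheaf vanishing on a schematically dense part vanishes. -/
theorem eq_bot_of_comap {W : Scheme.{u}} (i : W ⟶ X) [IsSchemeTheoreticallyDominant i] (I : X.IdealSheafData)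
    (h : I.comap i = ⊥) : I = ⊥ := by
  have h1 : I ≤ (⊥ : W.IdealSheafData).map i := Scheme.IdealSheafData.le_map_iff_comap_le.2 h.le
  rw [Scheme.IdealSheafData.map_bot, i.ker_eq_bot] at h1
  exact eq_bot_iff.2 h1

theorem dominant_of_isSchematicallyDense {U : X.Opens} (hU : CInt.IsSchematicallyDense U) :
    IsSchemeTheoreticallyDominant U.ι := by
  refine ⟨eq_bot_iff.2 fun V a ha => ?_⟩
  rw [Scheme.IdealSheafData.ideal_bot, Pi.bot_apply, Ideal.mem_bot]
  have h : (U.ι.app V.1).hom a = 0 := Scheme.Hom.ideal_ker_le U.ι V ha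
  refine hU V.1 ?_
  rw [map_zero]
  rw [Scheme.Opens.ι_app] at h
  have hle : V.1 ⊓ U ≤ U.ι ''ᵁ (U.ι ⁻¹ᵁ V.1) := fun x hx => ⟨⟨x, hx.2⟩, hx.1, rfl⟩
  have := congrArg (X.presheaf.map (homOfLE hle).op).hom h
  rw [map_zero] at this
  refine Eq.trans ?_ this
  show _ = (X.presheaf.map _ ≫ X.presheaf.map (homOfLE hle).op).hom a
  rw [← X.presheaf.map_comp]
  rfl

section Kill

variable {E : X.IdealSheafData} (hE : BlowUp.IsEffCartierIdeal E) {P G : X.Modules} (π : P ⟶ G)
  (hk : ∀ (V : X.affineOpens) (m : Γ(P, V.1)), π.app V.1 m = 0 ↔ BlowUp.KilledByPowerNear E P V m)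

include hk in
/-- What the equation of the exceptional divisor kills dies in the strict transform. -/
theorem stalkLin_eq_zero_of_smul {x : X} (U : X.affineOpens) (hx : x ∈ U.1) (e : Γ(X, U.1))
    (hU : E.ideal U = Ideal.span {e}) (z : P.presheaf.stalk x)
    (hz : (X.presheaf.germ U.1 x hx).hom e • z = 0) : PullbackMod.stalkLin π x z = 0 := by
  obtain ⟨W, hxW, m, rfl⟩ := TopCat.Presheaf.exists_germ_eq P.presheaf z
  obtain ⟨_, ⟨W₁ : X.Opens, hW₁, rfl⟩, hxW₁, hle₁⟩ := X.isBasis_affineOpens.exists_subset_of_mem_open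
    (a := x) (u := ↑(W ⊓ U.1)) ⟨hxW, hx⟩ (W ⊓ U.1).2
  have hW₁W : W₁ ≤ W := fun y hy => (hle₁ hy).1
  have hW₁U : W₁ ≤ U.1 := fun y hy => (hle₁ hy).2
  let m₁ : Γ(P, W₁) := P.presheaf.map (homOfLE hW₁W).op m
  let e₁ : Γ(X, W₁) := X.presheaf.map (homOfLE hW₁U).op e
  have hgm : P.presheaf.germ W x hxW m = P.presheaf.germ W₁ x hxW₁ m₁ :=
    (TopCat.Presheaf.germ_res_apply P.presheaf (homOfLE hW₁W) x hxW₁ m).symm
  have hge : (X.presheaf.germ U.1 x hx).hom e = (X.presheaf.germ W₁ x hxW₁).hom e₁ :=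
    (TopCat.Presheaf.germ_res_apply X.presheaf (homOfLE hW₁U) x hxW₁ e).symm
  have h0 : P.presheaf.germ W₁ x hxW₁ (e₁ • m₁) = P.presheaf.germ W₁ x hxW₁ 0 := by
    refine (PresheafOfModules.germ_smul (R := X.presheaf) P.val x W₁ hxW₁ e₁ m₁).trans ?_
    rw [map_zero]
    show (X.presheaf.germ W₁ x hxW₁).hom e₁ • P.presheaf.germ W₁ x hxW₁ m₁ = 0
    rw [← hge, ← hgm]
    exact hz
  obtain ⟨W₂, hxW₂, i₂, i₂', he⟩ := TopCat.Presheaf.germ_eq P.presheaf x hxW₁ hxW₁ _ _ h0
  obtain ⟨_, ⟨V : X.Opens, hV, rfl⟩, hxV, hVle⟩ := X.isBasis_affineOpens.exists_subset_of_mem_open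
    (a := x) (u := ↑W₂) hxW₂ W₂.2
  have hVW₁ : V ≤ W₁ := fun y hy => leOfHom i₂ (hVle hy)
  let m₂ : Γ(P, V) := P.presheaf.map (homOfLE hVW₁).op m₁
  have he₂ : X.presheaf.map (homOfLE hVW₁).op e₁ • m₂ = 0 := by
    have := congrArg (P.presheaf.map (homOfLE (show V ≤ W₂ from hVle)).op) he
    rw [map_zero, map_zero, ← ConcreteCategory.comp_apply, ← P.presheaf.map_comp] at this
    rw [← Scheme.Modules.map_smul]
    exact this
  have hkill : π.app V m₂ = 0 := by
    refine (hk ⟨V, hV⟩ m₂).2 ⟨1, fun a ha => ?_⟩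
    rw [pow_one, ← E.map_ideal (U := ⟨V, hV⟩) (V := U) (hVW₁.trans hW₁U), hU, Ideal.map_span, Set.image_singleton,
      Ideal.mem_span_singleton'] at ha
    obtain ⟨c, rfl⟩ := ha
    have hee : (X.presheaf.map (homOfLE (hVW₁.trans hW₁U)).op).hom e = X.presheaf.map (homOfLE hVW₁).op e₁ := by
      simp only [e₁, ← ConcreteCategory.comp_apply, ← Functor.map_comp]
      rfl
    rw [mul_smul]
    show c • ((X.presheaf.map (homOfLE (hVW₁.trans hW₁U)).op).hom e • m₂) = 0
    rw [hee, he₂, smul_zero]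
  rw [hgm, ← TopCat.Presheaf.germ_res_apply P.presheaf (homOfLE hVW₁) x hxV m₁, PullbackMod.stalkLin_germ, hkill,
    map_zero]

include hE hk in
/-- Off the exceptional divisor the stalks do not change. -/
theorem bijective_stalkLin [Epi π] {x : X} (hx : x ∉ E.support) :
    Function.Bijective (PullbackMod.stalkLin π x) := by
  refine ⟨?_, (PullbackMod.epi_iff_stalk π).1 inferInstance x⟩
  rw [injective_iff_map_eq_zero]
  intro z hz
  obtain ⟨W, hxW, m, rfl⟩ := TopCat.Presheaf.exists_germ_eq P.presheaf z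
  rw [PullbackMod.stalkLin_germ] at hz
  obtain ⟨W₂, hxW₂, i, i', he⟩ := TopCat.Presheaf.germ_eq G.presheaf x hxW hxW _ 0 (by rw [hz, map_zero])
  obtain ⟨U, hxU, e, -, hU⟩ := hE x
  have hxe : x ∈ X.basicOpen e := by
    have h := hx
    rw [Scheme.IdealSheafData.mem_support_iff_of_mem hxU, hU, Scheme.zeroLocus_span,
      Scheme.mem_zeroLocus_iff] at h
    simp only [Set.mem_singleton_iff, forall_eq, not_not] at h
    exact h
  obtain ⟨_, ⟨V : X.Opens, hV, rfl⟩, hxV, hle⟩ := X.isBasis_affineOpens.exists_subset_of_mem_open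
    (a := x) (u := ↑(W₂ ⊓ X.basicOpen e)) ⟨hxW₂, hxe⟩ (W₂ ⊓ X.basicOpen e).2
  have hVW : V ≤ W := fun y hy => leOfHom i (hle hy).1
  have hVe : V ≤ X.basicOpen e := fun y hy => (hle hy).2
  let m₂ : Γ(P, V) := P.presheaf.map (homOfLE hVW).op m
  have hm : π.app V m₂ = 0 := by
    have := congrArg (G.presheaf.map (homOfLE (show V ≤ W₂ from fun y hy => (hle hy).1)).op) he
    rw [map_zero, map_zero, ← ConcreteCategory.comp_apply, ← G.presheaf.map_comp] at this
    simp only [m₂]
    rw [QCohLib.app_res]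
    exact this
  obtain ⟨n, hn⟩ := (hk ⟨V, hV⟩ m₂).1 hm
  have hu : IsUnit ((X.presheaf.map (homOfLE (hVe.trans (X.basicOpen_le e))).op).hom e ^ n) := by
    refine IsUnit.pow _ ?_
    have hb : IsUnit (TopCat.Presheaf.restrictOpen (show Γ(X, U.1) from e) (X.basicOpen e) (X.basicOpen_le e)) :=
      RingedSpace.isUnit_res_basicOpen _ e
    have h := hb.map (X.presheaf.map (homOfLE hVe).op).hom
    rwa [TopCat.Presheaf.restrictOpen, TopCat.Presheaf.restrict, ← ConcreteCategory.comp_apply, ← X.presheaf.map_comp] at h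
  have hzero := hn _ (show (X.presheaf.map (homOfLE (hVe.trans (X.basicOpen_le e))).op).hom e ^ n ∈ (E ^ n).ideal ⟨V, hV⟩ by
    rw [Scheme.IdealSheafData.ideal_pow, Pi.pow_apply,
      ← E.map_ideal (U := ⟨V, hV⟩) (V := U) (hVe.trans (X.basicOpen_le e)), hU, Ideal.map_span, Set.image_singleton]
    exact Ideal.pow_mem_pow (Ideal.mem_span_singleton_self _) n)
  rw [← TopCat.Presheaf.germ_res_apply P.presheaf (homOfLE hVW) x hxV m, show (P.presheaf.map (homOfLE hVW).op m) = m₂ from rfl,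
    (hu.smul_eq_zero).1 hzero, map_zero]

variable [Coh.IsQCoh P] (hft : CohB1.IsFT P) (k : ℕ) (hfit : Fitt.sheafIdeal P k = E)

include hE hk in
theorem isQCoh_and_isFT [Epi π] (hft : CohB1.IsFT P) : Coh.IsQCoh G ∧ CohB1.IsFT G := by
  obtain ⟨hG, -⟩ := RGBlowLib.isQCoh_of_kill E (fun x => by
    obtain ⟨U, hx, e, -, he⟩ := hE x
    exact ⟨U, hx, e, he⟩) ‹_› π hk
  haveI := hG
  exact ⟨hG, S4812.isFT_of_epi hft π⟩

include hE hk hft hfit in
/-- The strict transform is generated by `k` elements at every point. -/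
theorem exists_span_stalk [Epi π] (x : X) :
    ∃ g : Fin k → G.presheaf.stalk x, Submodule.span (X.presheaf.stalk x) (Set.range g) = ⊤ := by
  obtain ⟨U, hx, e, -, hU⟩ := hE x
  haveI := PullbackMod.finite_stalk_of_isFT hft x
  let f := (X.presheaf.germ U.1 x hx).hom e
  have hf : Fitt.ideal (X.presheaf.stalk x) (P.presheaf.stalk x) k = Ideal.span {f} := by
    rw [← FittSheafLib.stalk_fitt P hft k U.2 x hx, ← FittSheafLib.sheafIdeal_ideal P hft k U, hfit, hU,
      Ideal.map_span, Set.image_singleton]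
  obtain ⟨g, hg⟩ := S6896.result (P.presheaf.stalk x) k f hf
  let K := LinearMap.ker (f • (LinearMap.id : P.presheaf.stalk x →ₗ[X.presheaf.stalk x] P.presheaf.stalk x))
  let l := K.liftQ (PullbackMod.stalkLin π x) fun z hz =>
    stalkLin_eq_zero_of_smul π hk U hx e hU z (by simpa [K] using hz)
  have hl : Function.Surjective l := fun y => by
    obtain ⟨z, rfl⟩ := (PullbackMod.epi_iff_stalk π).1 inferInstance x y
    exact ⟨Submodule.Quotient.mk z, rfl⟩
  refine ⟨fun i => l (g i), ?_⟩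
  rw [Set.range_comp' l g, Submodule.span_image, hg, Submodule.map_top, LinearMap.range_eq_top.2 hl]

include hE hk hft hfit in
/-- When the smaller Fitting ideals vanish the strict transform is locally free. -/
theorem isFinLocFreeOfRank [Epi π] (hlt : ∀ j, j < k → Fitt.sheafIdeal P j = ⊥) :
    FlatMod.IsFinLocFreeOfRank k G := by
  obtain ⟨hG, hGft⟩ := isQCoh_and_isFT hE π hk hft
  haveI := hG
  refine (S8875.result X G hG hGft k).2 ⟨fun j hj => ?_, fun j hj => ?_⟩
  · obtain ⟨-, hdom⟩ := S1571.result X E hE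
    haveI := hdom
    refine Scheme.IdealSheafData.ext (funext fun V => ?_)
    rw [Scheme.IdealSheafData.ideal_bot, Pi.bot_apply, eq_bot_iff]
    intro a ha
    rw [Ideal.mem_bot]
    haveI := (S1571.result X E hE).1
    refine (Scheme.Opens.ι (X := X) E.support.compl).app_injective V.1 ?_
    rw [map_zero]
    refine TopCat.Presheaf.section_ext (Scheme.Opens.toScheme (X := X) E.support.compl).sheaf _ _ _ fun w hw => ?_
    rw [map_zero]
    have hx : (Scheme.Opens.ι (X := X) E.support.compl) w ∉ E.support := w.2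
    have h0 : (X.presheaf.germ V.1 _ hw).hom a = 0 := by
      have hmem : (X.presheaf.germ V.1 _ hw).hom a ∈
          (Fitt.ideal Γ(X, V.1) Γ(G, V.1) j).map (X.presheaf.germ V.1 _ hw).hom :=
        Ideal.mem_map_of_mem _ ((FittSheafLib.sheafIdeal_ideal G hGft j V) ▸ ha)
      haveI := PullbackMod.finite_stalk_of_isFT hft ((Scheme.Opens.ι (X := X) E.support.compl) w)
      rw [FittSheafLib.stalk_fitt G hGft j V.2 _ hw,
        ← FittLib.ideal_eq_of_equiv (LinearEquiv.ofBijective _ (bijective_stalkLin hE π hk hx)),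
        ← FittSheafLib.stalk_fitt P hft j V.2 _ hw, ← FittSheafLib.sheafIdeal_ideal P hft j V, hlt j hj,
        Scheme.IdealSheafData.ideal_bot, Pi.bot_apply, Ideal.map_bot, Ideal.mem_bot] at hmem
      exact hmem
    show ((Scheme.Opens.ι (X := X) E.support.compl).app V.1 ≫
      (Scheme.Opens.toScheme (X := X) E.support.compl).presheaf.germ _ w hw).hom a = 0
    rw [← Scheme.Hom.germ_stalkMap]
    show ((Scheme.Opens.ι (X := X) E.support.compl).stalkMap w).hom ((X.presheaf.germ V.1 _ hw).hom a) = 0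
    rw [h0, map_zero]
  · rw [← Scheme.IdealSheafData.support_eq_bot_iff]
    refine SetLike.ext fun x => iff_of_false ?_ (fun h => h)
    obtain ⟨g, hg⟩ := exists_span_stalk hE π hk hft k hfit x
    obtain ⟨g', hg'⟩ := FittLib.exists_padded (S := X.presheaf.stalk x) g hg hj
    exact (FittSheafLib.notMem_support_iff G hGft j x).2 ⟨g', hg'⟩

end Kill

end Groth.Agent.BlowFittLib
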