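import Groth.Agent.BlowFittLib.Main
import Groth.Agent.ExactConstrLib.LocFree
import Groth.Agent.S8874

/-!
# The blow-up of a Fitting ideal
-/

set_option autoImplicit false
set_option linter.style.haveILetI false
set_option backward.isDefEq.respectTransparency false
set_option maxHeartbeats 1000000

universe u

open CategoryTheory CategoryTheory.Limits AlgebraicGeometry TopologicalSpace Opposite
open Groth.Agent.PullbackMod (stalkLin)

noncomputable section

namespace Groth.Agent.BlowFittLib

variable {X : Scheme.{u}} (F : X.Modules) [Coh.IsQCoh F] (hft : CohB1.IsFT F)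

include hft in
/-- Where a module is locally free its Fitting ideals are trivial. -/
theorem comap_fitt_of_free (U : X.Opens) (k : ℕ) (hfree : FlatMod.IsFinLocFreeOfRank k (F.restrict U.ι)) :
    (∀ j, j < k → (Fitt.sheafIdeal F j).comap U.ι = ⊥) ∧ (Fitt.sheafIdeal F k).comap U.ι = ⊤ := by
  have hfree' : FlatMod.IsFinLocFreeOfRank k ((Scheme.Modules.pullback U.ι).obj F) := fun y => by
    obtain ⟨O, hy, ⟨e⟩⟩ := hfree y
    exact ⟨O, hy, ⟨(Scheme.Modules.restrictFunctor O.ι).mapIso
      ((Scheme.Modules.restrictFunctorIsoPullback U.ι).app F).symm ≪≫ e⟩⟩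
  haveI := PullbackMod.isQCoh_pullback U.ι F
  obtain ⟨h1, h2⟩ := (S8875.result _ _ inferInstance (PullbackMod.isFiniteType_pullback U.ι F hft) k).1 hfree'
  exact ⟨fun j hj => (S8872.result U.ι F ‹_› hft j).trans (h1 j hj),
    (S8872.result U.ι F ‹_› hft k).trans (h2 k le_rfl)⟩

variable (k : ℕ) {X' : Scheme.{u}} (b : X' ⟶ X) (hb : BlowUp.IsBlowUp b (Fitt.sheafIdeal F k))
  (G : X'.Modules) (π : (Scheme.Modules.pullback b).obj F ⟶ G)
  (hG : BlowUp.IsStrictTransform b (Fitt.sheafIdeal F k) F G π)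

include hft hb hG in
theorem isQCoh_isFT_strict : Coh.IsQCoh G ∧ CohB1.IsFT G := by
  haveI := PullbackMod.isQCoh_pullback b F
  haveI := hG.1
  exact isQCoh_and_isFT hb.1 π hG.2 (PullbackMod.isFiniteType_pullback b F hft)

include hft hb hG in
theorem exists_generators (s' : X') :
    ∃ U : X'.Opens, s' ∈ U ∧ ∃ q : FlatMod.freeMod (↑U) k ⟶ G.restrict U.ι, Epi q := by
  obtain ⟨hGq, hGft⟩ := isQCoh_isFT_strict F hft k b hb G π hG
  haveI := hGq
  haveI := PullbackMod.isQCoh_pullback b F
  haveI := hG.1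
  exact (S8874.result X' G hGq hGft s' k).2 ((FittSheafLib.notMem_support_iff G hGft k s').2
    (exists_span_stalk hb.1 π hG.2 (PullbackMod.isFiniteType_pullback b F hft) k
      (S8872.result b F ‹_› hft k).symm s'))

include hft hb hG in
theorem isFinLocFreeOfRank_strict (hlt : ∀ j, j < k → (Fitt.sheafIdeal F j).comap b = ⊥) :
    FlatMod.IsFinLocFreeOfRank k G := by
  haveI := PullbackMod.isQCoh_pullback b F
  haveI := hG.1
  exact isFinLocFreeOfRank hb.1 π hG.2 (PullbackMod.isFiniteType_pullback b F hft) k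
    (S8872.result b F ‹_› hft k).symm fun j hj => (S8872.result b F ‹_› hft j).symm.trans (hlt j hj)

include hft hb in
theorem comap_eq_bot_of_free_compl
    (hfree : FlatMod.IsFinLocFreeOfRank k (F.restrict (Scheme.Opens.ι (Fitt.sheafIdeal F k).support.compl)))
    (j : ℕ) (hj : j < k) : (Fitt.sheafIdeal F j).comap b = ⊥ := by
  let U : X.Opens := (Fitt.sheafIdeal F k).support.compl
  let W : X'.Opens := ((Fitt.sheafIdeal F k).comap b).support.compl
  obtain ⟨-, hdom⟩ := S1571.result X' _ hb.1
  haveI : IsSchemeTheoreticallyDominant W.ι := hdom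
  refine eq_bot_of_comap W.ι _ ?_
  have hr : Set.range (W.ι ≫ b) ⊆ Set.range U.ι := by
    rintro _ ⟨w, rfl⟩
    rw [Scheme.Opens.range_ι]
    intro h
    have hw : W.ι w ∉ ((Fitt.sheafIdeal F k).comap b).support := w.2
    rw [Scheme.IdealSheafData.support_comap] at hw
    exact hw h
  rw [← Scheme.IdealSheafData.comap_comp, ← IsOpenImmersion.lift_fac U.ι (W.ι ≫ b) hr, Scheme.IdealSheafData.comap_comp,
    (comap_fitt_of_free F hft U k hfree).1 j hj, Scheme.IdealSheafData.comap_bot]

/-- A restricted map with bijective stalks is an isomorphism. -/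
theorem isIso_restrict_of_bijective {M N : X'.Modules} (φ : M ⟶ N) (U : X'.Opens)
    (h : ∀ x ∈ U, Function.Bijective (stalkLin φ x)) :
    IsIso ((Scheme.Modules.restrictFunctor U.ι).map φ) := by
  refine (PullbackMod.isIso_iff_stalk _).2 fun y => ?_
  let eM := ((Scheme.Modules.restrictStalkNatIso U.ι y).app M).addCommGroupIsoToAddEquiv
  let eN := ((Scheme.Modules.restrictStalkNatIso U.ι y).app N).addCommGroupIsoToAddEquiv
  have h2 : ∀ m, stalkLin φ (U.ι y) (eM m) = eN (stalkLin ((Scheme.Modules.restrictFunctor U.ι).map φ) y m) :=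
    fun m => (ConcreteCategory.congr_hom ((Scheme.Modules.restrictStalkNatIso U.ι y).hom.naturality φ) m).symm
  obtain ⟨h1, h3⟩ := h (U.ι y) y.2
  refine ⟨fun a c hac => eM.injective (h1 ((h2 a).trans ((congrArg eN hac).trans (h2 c).symm))), fun c => ?_⟩
  obtain ⟨m, hm⟩ := h3 (eN c)
  refine ⟨eM.symm m, eN.injective ?_⟩
  rw [← h2, eM.apply_symm_apply, hm]

include hb hG in
/-- The kernel of the strict transform map vanishes off the exceptional divisor. -/
theorem isZero_kernel_restrict (U : X.Opens) (hU : Disjoint ((Fitt.sheafIdeal F k).support : Set X) (U : Set X)) :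
    IsZero ((kernel π).restrict (b ⁻¹ᵁ U).ι) := by
  haveI := hG.1
  let R := Scheme.Modules.restrictFunctor (b ⁻¹ᵁ U).ι
  haveI : IsIso (R.map π) := isIso_restrict_of_bijective π (b ⁻¹ᵁ U) fun x hx =>
    bijective_stalkLin hb.1 π hG.2 (fun h => by
      rw [Scheme.IdealSheafData.support_comap] at h
      exact Set.disjoint_left.1 hU h hx)
  have h0 : R.map (kernel.ι π) = 0 := by
    rw [← cancel_mono (R.map π), ← Functor.map_comp, kernel.condition, Functor.map_zero, zero_comp]
  haveI : Mono (R.map (kernel.ι π)) := inferInstance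
  exact IsZero.of_mono_eq_zero _ h0

end Groth.Agent.BlowFittLib

namespace Groth.Agent.BlowFittLib

/-- Free modules at a point are flat over the point. -/
theorem isFlatOver_id {Y : Scheme.{u}} (G : Y.Modules) (k : ℕ) (h : ∀ y, PullbackMod.FreeAt k G y) :
    FlatMod.IsFlatOver (𝟙 Y) G := fun y => by
  obtain ⟨e⟩ := h y
  have hfl : Module.Flat (Y.presheaf.stalk y) (G.presheaf.stalk y) := Module.Flat.of_linearEquiv e
  show @Module.Flat (Y.presheaf.stalk y) (G.presheaf.stalk y) _ _ (FlatMod.moduleStalkOver (𝟙 Y) G y)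
  have heq : FlatMod.moduleStalkOver (𝟙 Y) G y = FlatMod.moduleStalk G y := Module.ext' _ _ fun r m => by
    show ((Scheme.Hom.stalkMap (𝟙 Y) y).hom r) • m = (show Y.presheaf.stalk y from r) • m
    rw [Scheme.Hom.stalkMap_id]
    rfl
  rw [heq]
  exact hfl

end Groth.Agent.BlowFittLib
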